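import Cfsg.Agent.Hall.Basic
import Cfsg.Agent.PCore.Basic
import Mathlib.GroupTheory.SchurZassenhaus

/-!
Solvable groups with conjugate `p`-subgroups and cyclic Sylow subgroups outside one prime.
-/

set_option autoImplicit false

namespace CfsgLib.BGroups

universe u

/-- For each prime, subgroups of the same prime-power order are conjugate. -/
def DCond (G : Type*) [Group G] : Prop :=
  ∀ p : ℕ, p.Prime → ∀ H K : Subgroup G, IsPGroup p H → IsPGroup p K → Nat.card H = Nat.card K →
    ∃ g : G, K = H.map (MulAut.conj g).toMonoidHom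

/-- All Sylow subgroups outside the prime `r` are cyclic. -/
def CycExc (r : ℕ) (G : Type*) [Group G] : Prop :=
  ∀ p : ℕ, p.Prime → p ≠ r → ∀ P : Sylow p G, IsCyclic P

variable {G : Type*} [Group G] [Finite G]

omit [Finite G] in
theorem map_mk_conj (V : Subgroup G) [V.Normal] (H : Subgroup G) (g : G) :
    (H.map (MulAut.conj g).toMonoidHom).map (QuotientGroup.mk' V) =
      (H.map (QuotientGroup.mk' V)).map (MulAut.conj (QuotientGroup.mk' V g)).toMonoidHom := by
  rw [Subgroup.map_map, Subgroup.map_map]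
  congr 1

theorem eq_of_card_cyclic {C : Subgroup G} (hC : IsCyclic C) {H K : Subgroup G} (hH : H ≤ C)
    (hK : K ≤ C) (hcard : Nat.card H = Nat.card K) : H = K := by
  classical
  haveI := hC
  letI := Fintype.ofFinite C
  have key : ∀ X : Subgroup G, X ≤ C → ∀ c : C, ((c : G) ∈ X ↔ c ^ Nat.card X = 1) := by
    intro X hX c
    constructor
    · intro hc
      have h1 : (⟨(c : G), hc⟩ : X) ^ Nat.card X = 1 := pow_card_eq_one'
      exact Subtype.ext (congrArg (fun t : X => (t : G)) h1)
    · intro hc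
      have hle : (X.subgroupOf C : Set C).ncard ≥ ({a : C | a ^ Nat.card X = 1}).ncard := by
        have h1 : (X.subgroupOf C : Set C).ncard = Nat.card X := by
          rw [← Nat.card_coe_set_eq]
          exact Nat.card_congr (Subgroup.subgroupOfEquivOfLe hX).toEquiv
        rw [h1, Set.ncard_eq_toFinset_card']
        simpa using IsCyclic.card_pow_eq_one_le (α := C) (n := Nat.card X) Nat.card_pos
      have hsub : (X.subgroupOf C : Set C) ⊆ {a : C | a ^ Nat.card X = 1} := by
        intro a ha
        have h1 : (⟨(a : G), ha⟩ : X) ^ Nat.card X = 1 := pow_card_eq_one'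
        exact Subtype.ext (congrArg (fun t : X => (t : G)) h1)
      have heq := Set.eq_of_subset_of_ncard_le hsub hle (Set.toFinite _)
      have : c ∈ (X.subgroupOf C : Set C) := by rw [heq]; exact hc
      exact this
  ext x
  constructor
  · intro hx
    exact (key K hK ⟨x, hH hx⟩).2 (hcard ▸ (key H hH ⟨x, hH hx⟩).1 hx)
  · intro hx
    exact (key H hH ⟨x, hK hx⟩).2 (hcard.symm ▸ (key K hK ⟨x, hK hx⟩).1 hx)

theorem dcond_of_cyclic (h : ∀ p : ℕ, p.Prime → ∀ P : Sylow p G, IsCyclic P) : DCond G := by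
  intro p hp H K hH hK hcard
  haveI : Fact p.Prime := ⟨hp⟩
  obtain ⟨P, hP⟩ := hH.exists_le_sylow
  obtain ⟨Q, hQ⟩ := hK.exists_le_sylow
  obtain ⟨g, hg⟩ := MulAction.exists_smul_eq G P Q
  refine ⟨g, eq_of_card_cyclic (h p hp Q) hQ ?_ ?_⟩
  · rintro _ ⟨x, hx, rfl⟩
    rw [← hg]
    exact ⟨x, hP hx, rfl⟩
  · rw [← hcard]
    exact (Subgroup.card_map_of_injective (f := (MulAut.conj g).toMonoidHom) (MulAut.conj g).injective).symm

theorem cyclic_sylow_subgroup (D : Subgroup G) {p : ℕ} [Fact p.Prime] (h : ∀ P : Sylow p G, IsCyclic P)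
    (P : Sylow p D) : IsCyclic P := by
  obtain ⟨Q, hQ⟩ := (P.2.map D.subtype).exists_le_sylow
  haveI := h Q
  haveI := isCyclic_of_injective (Subgroup.inclusion hQ) (Subgroup.inclusion_injective hQ)
  exact ((P : Subgroup D).equivMapOfInjective D.subtype D.subtype_injective).isCyclic.2 inferInstance

theorem cycExc_quotient {r : ℕ} (h : CycExc r G) (V : Subgroup G) [V.Normal] : CycExc r (G ⧸ V) := by
  intro p hp hpr P
  haveI : Fact p.Prime := ⟨hp⟩
  obtain ⟨P₀, hP₀⟩ := Sylow.mapSurjective_surjective (QuotientGroup.mk'_surjective V) p P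
  haveI := h p hp hpr P₀
  rw [← hP₀]
  exact isCyclic_of_surjective ((QuotientGroup.mk' V).subgroupMap (P₀ : Subgroup G))
    ((QuotientGroup.mk' V).subgroupMap_surjective _)

/-- A subgroup of coprime order of a quotient lifts isomorphically. -/
theorem exists_lift (V : Subgroup G) [V.Normal] (Cb : Subgroup (G ⧸ V))
    (hco : (Nat.card V).Coprime (Nat.card Cb)) :
    ∃ L : Subgroup G, L.map (QuotientGroup.mk' V) = Cb ∧ Nat.card L = Nat.card Cb := by
  set X := Cb.comap (QuotientGroup.mk' V) with hX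
  have hVX : V ≤ X := fun x hx => by
    show QuotientGroup.mk' V x ∈ Cb
    rw [QuotientGroup.mk'_apply, (QuotientGroup.eq_one_iff x).2 hx]
    exact one_mem _
  have hc : Nat.card (V.subgroupOf X) = Nat.card V :=
    Nat.card_congr (Subgroup.subgroupOfEquivOfLe hVX).toEquiv
  have hi : (V.subgroupOf X).index = Nat.card Cb := by
    have h1 := (V.subgroupOf X).card_mul_index
    rw [hc, hX, CfsgLib.PCore.card_comap_mk'] at h1
    exact Nat.eq_of_mul_eq_mul_left Nat.card_pos h1
  obtain ⟨L', hL'⟩ := Subgroup.exists_right_complement'_of_coprime (N := V.subgroupOf X) (by rwa [hc, hi])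
  refine ⟨L'.map X.subtype, ?_, ?_⟩
  · refine le_antisymm ?_ ?_
    · rintro _ ⟨x, hx, rfl⟩
      have h : x ∈ X := Subgroup.map_subtype_le _ hx
      exact h
    · intro q hq
      obtain ⟨x, rfl⟩ := QuotientGroup.mk'_surjective V q
      have h1 : (⟨x, hq⟩ : X) ∈ V.subgroupOf X ⊔ L' := by rw [hL'.sup_eq_top]; trivial
      obtain ⟨a, ha, b, hb, hab⟩ := Subgroup.mem_sup_of_normal_left.1 h1
      refine ⟨b, ⟨b, hb, rfl⟩, ?_⟩
      rw [show x = (a : G) * b from (congrArg Subtype.val hab).symm, map_mul,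
        show QuotientGroup.mk' V (a : G) = 1 from (QuotientGroup.eq_one_iff _).2 ha, one_mul]
  · rw [Subgroup.card_map_of_injective X.subtype_injective, ← hi, hL'.symm.index_eq_card]

theorem dcond_quotient (h : DCond G) (V : Subgroup G) [V.Normal] {q : ℕ} [Fact q.Prime]
    (hV : IsPGroup q V) : DCond (G ⧸ V) := by
  intro p hp Hb Kb hH hK hcard
  haveI : Fact p.Prime := ⟨hp⟩
  suffices hs : ∃ H K : Subgroup G, IsPGroup p H ∧ IsPGroup p K ∧ Nat.card H = Nat.card K ∧
      H.map (QuotientGroup.mk' V) = Hb ∧ K.map (QuotientGroup.mk' V) = Kb by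
    obtain ⟨H, K, h1, h2, h3, h4, h5⟩ := hs
    obtain ⟨g, hg⟩ := h p hp H K h1 h2 h3
    refine ⟨QuotientGroup.mk' V g, ?_⟩
    rw [← h4, ← h5, hg, map_mk_conj]
  obtain ⟨i, hi⟩ := IsPGroup.iff_card.1 hH
  obtain ⟨j, hj⟩ := IsPGroup.iff_card.1 hV
  by_cases hpq : p = q
  · subst hpq
    have hc : ∀ Cb : Subgroup (G ⧸ V), Nat.card Cb = p ^ i →
        IsPGroup p (Cb.comap (QuotientGroup.mk' V)) := fun Cb hCb =>
      IsPGroup.of_card (n := j + i) (by rw [CfsgLib.PCore.card_comap_mk', hj, hCb, pow_add])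
    exact ⟨_, _, hc Hb hi, hc Kb (hcard ▸ hi),
      by rw [CfsgLib.PCore.card_comap_mk', CfsgLib.PCore.card_comap_mk', hcard],
      Subgroup.map_comap_eq_self_of_surjective (QuotientGroup.mk'_surjective V) _,
      Subgroup.map_comap_eq_self_of_surjective (QuotientGroup.mk'_surjective V) _⟩
  · have hco : ∀ Cb : Subgroup (G ⧸ V), Nat.card Cb = p ^ i → (Nat.card V).Coprime (Nat.card Cb) := by
      intro Cb hCb
      rw [hj, hCb]
      exact Nat.Coprime.pow _ _ ((Nat.coprime_primes Fact.out hp).2 (Ne.symm hpq))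
    obtain ⟨H, hH1, hH2⟩ := exists_lift V Hb (hco Hb hi)
    obtain ⟨K, hK1, hK2⟩ := exists_lift V Kb (hco Kb (hcard ▸ hi))
    exact ⟨H, K, IsPGroup.of_card (n := i) (by rw [hH2, hi]), IsPGroup.of_card (n := i) (by rw [hK2, ← hcard, hi]),
      by rw [hH2, hK2, hcard], hH1, hK1⟩

theorem conj_all : ∀ (n : ℕ) (X : Type u) [Group X] [Finite X], Group.IsSolvable X → ∀ r : ℕ,
    DCond X → CycExc r X → Nat.card X = n →
    ∀ H K : Subgroup X, Nat.card H = Nat.card K → ∃ g : X, K = H.map (MulAut.conj g).toMonoidHom := by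
  intro n
  induction n using Nat.strong_induction_on with
  | _ n ih =>
    intro X _ _ hsol r hD hCy hn H K hcard
    classical
    haveI := hsol
    rcases subsingleton_or_nontrivial X with hX | hX
    · refine ⟨1, ?_⟩
      ext x
      simp [Subsingleton.elim x 1]
    obtain ⟨V, hV, -⟩ := CfsgLib.Hall.exists_isMinNormal_le (⊤ : Subgroup X) top_ne_bot
    haveI := hV.1
    obtain ⟨p, hp, hab, hVp, hexp⟩ := hV.elementaryAbelian
    haveI : Fact p.Prime := ⟨hp⟩
    haveI := hab
    obtain ⟨k, hk⟩ := IsPGroup.iff_card.1 hVp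
    have hk0 : k ≠ 0 := fun h => hV.2.1 (Subgroup.eq_bot_of_card_eq _ (by rw [hk, h, pow_zero]))
    have hpV : p ∣ Nat.card V := hk ▸ dvd_pow_self p hk0
    let π := QuotientGroup.mk' V
    have hπ : Function.Surjective π := QuotientGroup.mk'_surjective V
    have hlt : Nat.card (X ⧸ V) < n := by
      rw [← hn, ← Subgroup.index_eq_card, ← V.card_mul_index]
      calc V.index = 1 * V.index := (one_mul _).symm
        _ < Nat.card V * V.index := Nat.mul_lt_mul_of_pos_right
            (lt_of_lt_of_le hp.one_lt (Nat.le_of_dvd Nat.card_pos hpV))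
            (Nat.pos_of_ne_zero Subgroup.index_ne_zero_of_finite)
    haveI : Group.IsSolvable (X ⧸ V) := Group.isSolvable_of_surjective hπ
    have IH := ih _ hlt (X ⧸ V) inferInstance r (dcond_quotient hD V hVp) (cycExc_quotient hCy V) rfl
    have hclose : ∀ x : X, x ^ p = 1 → x ∈ V := by
      intro x hx
      by_cases hx1 : x = 1
      · rw [hx1]; exact one_mem _
      obtain ⟨⟨v, hv⟩, hvo⟩ := exists_prime_orderOf_dvd_card' (G := V) p hpV
      rw [Subgroup.orderOf_mk] at hvo
      obtain ⟨g, hg⟩ := hD p hp (Subgroup.zpowers v) (Subgroup.zpowers x)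
        (IsPGroup.of_card (n := 1) (by rw [Nat.card_zpowers, hvo, pow_one]))
        (IsPGroup.of_card (n := 1) (by rw [Nat.card_zpowers, orderOf_eq_prime hx hx1, pow_one]))
        (by rw [Nat.card_zpowers, Nat.card_zpowers, hvo, orderOf_eq_prime hx hx1])
      obtain ⟨b, hb, hbx⟩ :=
        (hg ▸ Subgroup.mem_zpowers x : x ∈ (Subgroup.zpowers v).map (MulAut.conj g).toMonoidHom)
      rw [← hbx]
      exact (inferInstance : V.Normal).conj_mem b (Subgroup.zpowers_le.2 hv hb) g
    have hnormV : ∀ L : Subgroup X, L ≤ Subgroup.normalizer (V : Set X) := fun L => by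
      rw [Subgroup.normalizer_eq_top_iff.2 (inferInstance : V.Normal)]; exact le_top
    -- subgroups meeting `V` trivially, with conjugate images
    have hfix : ∀ L M : Subgroup X, (Nat.card V).Coprime (Nat.card L) → (Nat.card V).Coprime (Nat.card M) →
        L.map π = M.map π → ∃ a ∈ V, M = L.map (MulAut.conj a).toMonoidHom := by
      intro L M hL hM h
      have hsup : V ⊔ L = V ⊔ M := by
        have h1 := congrArg (Subgroup.comap π) h
        rwa [Subgroup.comap_map_eq, Subgroup.comap_map_eq, QuotientGroup.ker_mk', sup_comm, sup_comm M] at h1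
      obtain ⟨a, ha, he⟩ := CfsgLib.Hall.exists_conj_eq_of_sup_eq V L M (hnormV L) (hnormV M) hL hM hsup
      exact ⟨a, ha, he.symm⟩
    have hcardmap : ∀ L : Subgroup X, (Nat.card V).Coprime (Nat.card L) → Nat.card (L.map π) = Nat.card L := by
      intro L hL
      refine (Nat.card_congr (Equiv.ofBijective (π.subgroupMap L) ⟨?_, π.subgroupMap_surjective L⟩)).symm
      refine (injective_iff_map_eq_one _).2 fun l hl => ?_
      have h1 : (l : X) ∈ V ⊓ L :=
        Subgroup.mem_inf.2 ⟨(QuotientGroup.eq_one_iff (l : X)).1 (congrArg Subtype.val hl), l.2⟩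
      rw [Subgroup.inf_eq_bot_of_coprime hL, Subgroup.mem_bot] at h1
      exact Subtype.ext h1
    by_cases hk1 : k = 1
    · subst hk1
      rw [pow_one] at hk
      have hVmin : ∀ L : Subgroup X, p ∣ Nat.card L → V ≤ L := by
        intro L hL
        obtain ⟨⟨x, hx⟩, hxo⟩ := exists_prime_orderOf_dvd_card' (G := L) p hL
        rw [Subgroup.orderOf_mk] at hxo
        have hxV : x ∈ V := hclose x (by rw [← hxo]; exact pow_orderOf_eq_one x)
        rw [← Subgroup.eq_of_le_of_card_ge (Subgroup.zpowers_le.2 hxV) (by rw [Nat.card_zpowers, hxo, hk])]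
        exact Subgroup.zpowers_le.2 hx
      by_cases hpH : p ∣ Nat.card H
      · have hVH := hVmin H hpH
        have hVK := hVmin K (hcard ▸ hpH)
        have hc : ∀ L : Subgroup X, V ≤ L → Nat.card L = Nat.card V * Nat.card (L.map π) := by
          intro L hVL
          rw [← CfsgLib.PCore.card_comap_mk', Subgroup.comap_map_eq, QuotientGroup.ker_mk', sup_eq_left.2 hVL]
        obtain ⟨gb, hgb⟩ := IH (H.map π) (K.map π) (Nat.eq_of_mul_eq_mul_left Nat.card_pos
          ((hc H hVH).symm.trans (hcard.trans (hc K hVK))))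
        obtain ⟨g, rfl⟩ := hπ gb
        refine ⟨g, ?_⟩
        rw [← map_mk_conj] at hgb
        have h1 := congrArg (Subgroup.comap π) hgb
        rw [Subgroup.comap_map_eq, Subgroup.comap_map_eq, QuotientGroup.ker_mk', sup_eq_left.2 hVK,
          sup_eq_left.2 ?_] at h1
        · exact h1
        · intro x hx
          exact ⟨g⁻¹ * x * g, hVH (by simpa using (inferInstance : V.Normal).conj_mem x hx g⁻¹), by
            simp [mul_assoc]⟩
      · have hco : ∀ L : Subgroup X, Nat.card L = Nat.card H → (Nat.card V).Coprime (Nat.card L) :=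
          fun L hL => by rw [hk, hL]; exact (hp.coprime_iff_not_dvd).2 hpH
        obtain ⟨gb, hgb⟩ := IH (H.map π) (K.map π)
          (by rw [hcardmap H (hco H rfl), hcardmap K (hco K hcard.symm), hcard])
        obtain ⟨g, rfl⟩ := hπ gb
        rw [← map_mk_conj] at hgb
        obtain ⟨a, -, ha⟩ := hfix _ K (hco _ (Subgroup.card_map_of_injective
          (f := (MulAut.conj g).toMonoidHom) (MulAut.conj g).injective)) (hco K hcard.symm) hgb.symm
        refine ⟨a * g, ?_⟩
        rw [ha, Subgroup.map_map]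
        congr 1
        ext x
        simp [mul_assoc]
    -- `V` is a Sylow subgroup
    have hall : ∀ (x : X) (m : ℕ), x ^ p ^ m = 1 → x ∈ V := by
      intro x m hx
      obtain ⟨i, -, hi⟩ := (Nat.dvd_prime_pow hp).1 (orderOf_dvd_of_pow_eq_one hx)
      rcases Nat.lt_or_ge i 2 with h | h
      · refine hclose x ?_
        rw [← orderOf_dvd_iff_pow_eq_one, hi]
        exact (pow_dvd_pow p (show i ≤ 1 by omega)).trans (by rw [pow_one])
      exfalso
      have ho : orderOf (x ^ p ^ (i - 2)) = p * p := by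
        rw [orderOf_pow' _ (pow_ne_zero _ hp.ne_zero), hi, Nat.gcd_eq_right (pow_dvd_pow p (by omega)),
          Nat.pow_div (by omega) hp.pos, show i - (i - 2) = 2 by omega, pow_two]
      obtain ⟨W, hW⟩ := Sylow.exists_subgroup_card_pow_prime (G := V) p (n := 2)
        (hk ▸ pow_dvd_pow p (show 2 ≤ k by omega))
      obtain ⟨g, hg⟩ := hD p hp (W.map V.subtype) (Subgroup.zpowers (x ^ p ^ (i - 2)))
        ((hVp.to_subgroup W).map _) (IsPGroup.of_card (n := 2) (by rw [Nat.card_zpowers, ho, pow_two]))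
        (by rw [Subgroup.card_map_of_injective V.subtype_injective, hW, Nat.card_zpowers, ho, pow_two])
      obtain ⟨b, hb, hbx⟩ := (hg ▸ Subgroup.mem_zpowers (x ^ p ^ (i - 2)) :
        x ^ p ^ (i - 2) ∈ (W.map V.subtype).map (MulAut.conj g).toMonoidHom)
      have h1 : x ^ p ^ (i - 2) ∈ V := by
        rw [← hbx]
        exact (inferInstance : V.Normal).conj_mem b (Subgroup.map_subtype_le _ hb) g
      have h3 := Nat.le_of_dvd hp.pos (ho ▸ orderOf_dvd_of_pow_eq_one (hexp _ h1))
      exact absurd h3 (not_le.2 (lt_mul_self hp.one_lt))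
    let P : Sylow p X := default
    have hPV : (P : Subgroup X) = V := by
      refine le_antisymm (fun x hx => ?_) (hVp.le_sylow_of_normal P)
      obtain ⟨m, hm⟩ := P.2 ⟨x, hx⟩
      exact hall x m (by simpa using congrArg Subtype.val hm)
    have hidx : (Nat.card V).Coprime V.index := hPV ▸ Sylow.card_coprime_index P
    have hpr : p = r := by
      by_contra hne
      have hVc : IsCyclic V := hPV ▸ hCy p hp hne P
      obtain ⟨v, hv⟩ := IsCyclic.exists_ofOrder_eq_natCard (α := V)
      have h1 : orderOf v ∣ p := orderOf_dvd_of_pow_eq_one (Subtype.ext (hexp v v.2))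
      rw [hv, hk] at h1
      have h2 : p ^ k ≤ p ^ 1 := by rw [pow_one]; exact Nat.le_of_dvd hp.pos h1
      have := (Nat.pow_le_pow_iff_right hp.one_lt).1 h2
      omega
    -- splitting of a subgroup
    have hsplit : ∀ L : Subgroup X, ∃ M : Subgroup X, M ≤ L ∧ (V ⊓ L) ⊔ M = L ∧
        (Nat.card V).Coprime (Nat.card M) ∧ Nat.card ↥(V ⊓ L) * Nat.card M = Nat.card L := by
      intro L
      have hcW : Nat.card (V.subgroupOf L) = Nat.card ↥(V ⊓ L) := by
        rw [← Subgroup.inf_subgroupOf_right V L]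
        exact Nat.card_congr (Subgroup.subgroupOfEquivOfLe inf_le_right).toEquiv
      have hdiv : (V.subgroupOf L).index ∣ V.index := Subgroup.relIndex_dvd_index_of_normal V L
      obtain ⟨M', hM'⟩ := Subgroup.exists_right_complement'_of_coprime (N := V.subgroupOf L) (by
        rw [hcW]
        exact (hidx.coprime_dvd_left (Subgroup.card_dvd_of_le inf_le_left)).coprime_dvd_right hdiv)
      refine ⟨M'.map L.subtype, Subgroup.map_subtype_le _, ?_, ?_, ?_⟩
      · have h1 := congrArg (Subgroup.map L.subtype) hM'.sup_eq_top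
        rwa [Subgroup.map_sup, Subgroup.subgroupOf_map_subtype, ← MonoidHom.range_eq_map,
          Subgroup.range_subtype] at h1
      · rw [Subgroup.card_map_of_injective L.subtype_injective, ← hM'.symm.index_eq_card]
        exact hidx.coprime_dvd_right hdiv
      · rw [Subgroup.card_map_of_injective L.subtype_injective, ← hcW]
        exact hM'.card_mul
    obtain ⟨L, hLH, hHs, hLco, hLc⟩ := hsplit H
    obtain ⟨M, hMK, hKs, hMco, hMc⟩ := hsplit K
    set W := V ⊓ H with hW
    set W' := V ⊓ K with hW'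
    have hWW : Nat.card W = Nat.card W' := by
      have h1 := hLc.trans (hcard.trans hMc.symm)
      refine Nat.dvd_antisymm ?_ ?_
      · refine (Nat.Coprime.dvd_of_dvd_mul_right (n := Nat.card M) ?_ ⟨Nat.card L, h1.symm⟩)
        exact hMco.coprime_dvd_left (Subgroup.card_dvd_of_le inf_le_left)
      · refine (Nat.Coprime.dvd_of_dvd_mul_right (n := Nat.card L) ?_ ⟨Nat.card M, h1⟩)
        exact hLco.coprime_dvd_left (Subgroup.card_dvd_of_le inf_le_left)
    have hLM : Nat.card L = Nat.card M := by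
      have h1 := hLc.trans (hcard.trans hMc.symm)
      rw [hWW] at h1
      exact Nat.eq_of_mul_eq_mul_left Nat.card_pos h1
    have hWp : ∀ Y : Subgroup X, Y ≤ V → IsPGroup p Y := fun Y hY => hVp.to_le hY
    obtain ⟨g, hg⟩ := hD p hp W W' (hWp W inf_le_left) (hWp W' inf_le_left) hWW
    set L1 := L.map (MulAut.conj g).toMonoidHom with hL1
    have hL1c : Nat.card L1 = Nat.card L :=
      Subgroup.card_map_of_injective (f := (MulAut.conj g).toMonoidHom) (MulAut.conj g).injective
    set D := Subgroup.normalizer (W' : Set X) with hD'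
    have hVD : V ≤ D := by
      refine le_trans ?_ (Subgroup.centralizer_le_normalizer _)
      exact (Subgroup.le_centralizer V).trans (Subgroup.centralizer_le
        (show (W' : Set X) ⊆ (V : Set X) from fun x hx => hx.1))
    have hnW : ∀ Y : Subgroup X, Y ≤ Subgroup.normalizer ((V ⊓ Y : Subgroup X) : Set X) := by
      intro Y y hy
      refine Subgroup.mem_normalizer_fintype ?_
      intro z hz
      exact Subgroup.mem_inf.2 ⟨(inferInstance : V.Normal).conj_mem z hz.1 y, mul_mem (mul_mem hy hz.2) (inv_mem hy)⟩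
    have hMD : M ≤ D := hMK.trans (hnW K)
    have hL1D : L1 ≤ D := by
      rintro _ ⟨l, hl, rfl⟩
      refine Subgroup.mem_normalizer_fintype ?_
      intro z hz
      rw [hg] at hz ⊢
      obtain ⟨w, hw, rfl⟩ := hz
      refine ⟨l * w * l⁻¹, (Subgroup.mem_normalizer_iff.1 (hnW H (hLH hl)) w).1 hw, ?_⟩
      simp [mul_assoc]
    set Db := D.map π with hDb
    haveI : Group.IsSolvable (X ⧸ V) := Group.isSolvable_of_surjective hπ
    have hDbc : ∀ q : ℕ, q.Prime → ∀ Q : Sylow q Db, IsCyclic Q := by
      intro q hq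
      haveI : Fact q.Prime := ⟨hq⟩
      refine cyclic_sylow_subgroup Db fun Q => ?_
      by_cases hqr : q = r
      · have hq' : ¬ q ∣ Nat.card (X ⧸ V) := by
          rw [hqr, ← hpr, ← Subgroup.index_eq_card, ← hPV]
          exact P.not_dvd_index
        have h1 : Nat.card (Q : Subgroup (X ⧸ V)) = 1 := by
          obtain ⟨m, hm⟩ := IsPGroup.iff_card.1 Q.2
          rcases Nat.eq_zero_or_pos m with rfl | hm0
          · rw [hm, pow_zero]
          · exact absurd ((dvd_pow_self q hm0.ne').trans (hm ▸ Subgroup.card_subgroup_dvd_card _)) hq'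
        haveI : Subsingleton (Q : Subgroup (X ⧸ V)) := (Nat.card_eq_one_iff_unique.1 h1).1
        exact isCyclic_of_subsingleton
      · exact cycExc_quotient hCy V q hq hqr Q
    haveI : Group.IsSolvable Db := inferInstance
    have IH' := ih (Nat.card Db) (lt_of_le_of_lt (Subgroup.card_le_card_group Db) hlt) Db inferInstance r
      (dcond_of_cyclic hDbc) (fun q hq _ Q => hDbc q hq Q) rfl
    have hco1 : (Nat.card V).Coprime (Nat.card L1) := by rw [hL1c]; exact hLco
    obtain ⟨⟨db, hdb⟩, hconj⟩ := IH' ((L1.map π).subgroupOf Db) ((M.map π).subgroupOf Db) (by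
      rw [Nat.card_congr (Subgroup.subgroupOfEquivOfLe (Subgroup.map_mono hL1D)).toEquiv,
        Nat.card_congr (Subgroup.subgroupOfEquivOfLe (Subgroup.map_mono hMD)).toEquiv,
        hcardmap L1 hco1, hcardmap M hMco, hL1c, hLM])
    obtain ⟨d, hdD, rfl⟩ := hdb
    have h2 : M.map π = (L1.map (MulAut.conj d).toMonoidHom).map π := by
      rw [map_mk_conj]
      have h1 := congrArg (Subgroup.map Db.subtype) hconj
      rw [Subgroup.map_subgroupOf_eq_of_le (Subgroup.map_mono hMD), Subgroup.map_map] at h1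
      rw [h1]
      conv_rhs => rw [← Subgroup.map_subgroupOf_eq_of_le (Subgroup.map_mono (f := π) hL1D), Subgroup.map_map]
      rfl
    obtain ⟨a, haV, ha⟩ := hfix (L1.map (MulAut.conj d).toMonoidHom) M
      (by rw [Subgroup.card_map_of_injective (f := (MulAut.conj d).toMonoidHom) (MulAut.conj d).injective, hL1c]; exact hLco)
      hMco h2.symm
    refine ⟨a * d * g, ?_⟩
    have hadD : a * d ∈ D := mul_mem (hVD haV) hdD
    have hW'fix : W'.map (MulAut.conj (a * d)).toMonoidHom = W' := by
      ext x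
      constructor
      · rintro ⟨y, hy, rfl⟩
        exact (Subgroup.mem_normalizer_iff.1 hadD y).1 hy
      · intro hx
        exact ⟨(a * d)⁻¹ * x * (a * d), (Subgroup.mem_normalizer_iff''.1 hadD x).1 hx, by simp [mul_assoc]⟩
    have hcomp : ∀ Y : Subgroup X, ∀ s t : X, Y.map (MulAut.conj (s * t)).toMonoidHom =
        (Y.map (MulAut.conj t).toMonoidHom).map (MulAut.conj s).toMonoidHom := by
      intro Y s t
      rw [Subgroup.map_map]
      congr 1
      ext x
      simp [mul_assoc]
    rw [← hKs, ← hHs, Subgroup.map_sup, hcomp W (a * d) g, hcomp L (a * d) g, ← hg, hW'fix, ← hL1,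
      hcomp L1 a d, ← ha]

end CfsgLib.BGroups
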